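import Groth.Agent.Lib.SmoothRetractH7.Sym
import Mathlib.RingTheory.Etale.Kaehler
import Mathlib.RingTheory.Kaehler.Basic
import Mathlib.RingTheory.Extension.Cotangent.Basic
import Mathlib.RingTheory.Flat.Basic
import Mathlib.RingTheory.Flat.Localization
import Mathlib.LinearAlgebra.TensorProduct.Prod
import Mathlib.Algebra.Exact.Basic
import Mathlib.RingTheory.FiniteType
import Mathlib.Algebra.TrivSqZeroExt.Basic

/-!
# A retract of a finitely presented algebra with free differentials on the smooth locus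

`C` is the symmetric algebra of the module of relations of `Ω[A⁄R]`.
-/

set_option autoImplicit false
set_option linter.style.haveILetI false
universe u

open KaehlerDifferential TensorProduct

namespace Groth.Agent.SmoothRetractH7

section Kaehler

variable (A K : Type u) [CommRing A] [AddCommGroup K] [Module A K]

/-- The differentials of a symmetric algebra. -/
theorem nonempty_kaehlerSymmetricAlgebraEquiv :
    Nonempty (Ω[SymmetricAlgebra A K⁄A] ≃ₗ[SymmetricAlgebra A K] SymmetricAlgebra A K ⊗[A] K) := by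
  let C := SymmetricAlgebra A K
  let φ : K →ₗ[A] TrivSqZeroExt C (C ⊗[A] K) :=
    { toFun := fun k => TrivSqZeroExt.inl (SymmetricAlgebra.ι A K k) + TrivSqZeroExt.inr ((1 : C) ⊗ₜ[A] k)
      map_add' := fun k k' => by
        rw [map_add, tmul_add, TrivSqZeroExt.inl_add, TrivSqZeroExt.inr_add]
        abel
      map_smul' := fun r k => by
        rw [RingHom.id_apply, map_smul, tmul_smul, smul_add, TrivSqZeroExt.inl_smul, TrivSqZeroExt.inr_smul] }
  let L := SymmetricAlgebra.lift φ
  have hLι : ∀ k, L (SymmetricAlgebra.ι A K k) =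
      TrivSqZeroExt.inl (SymmetricAlgebra.ι A K k) + TrivSqZeroExt.inr ((1 : C) ⊗ₜ[A] k) := fun k =>
    SymmetricAlgebra.lift_ι_apply φ k
  have hfst : ∀ x, (L x).fst = x := fun x => by
    induction x using SymmetricAlgebra.induction with
    | algebraMap r => rw [AlgHom.commutes, TrivSqZeroExt.algebraMap_eq_inl', TrivSqZeroExt.fst_inl]
    | ι k => rw [hLι, TrivSqZeroExt.fst_add, TrivSqZeroExt.fst_inl, TrivSqZeroExt.fst_inr, add_zero]
    | mul x y hx hy => rw [map_mul, TrivSqZeroExt.fst_mul, hx, hy]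
    | add x y hx hy => rw [map_add, TrivSqZeroExt.fst_add, hx, hy]
  let Δ₀ : C →ₗ[A] C ⊗[A] K :=
    { toFun := fun x => (L x).snd
      map_add' := fun x y => by rw [map_add, TrivSqZeroExt.snd_add]
      map_smul' := fun r x => by rw [map_smul, TrivSqZeroExt.snd_smul, RingHom.id_apply] }
  let Δ : Derivation A C (C ⊗[A] K) := Derivation.mk' Δ₀ fun x y => by
    show (L (x * y)).snd = x • (L y).snd + y • (L x).snd
    rw [map_mul, TrivSqZeroExt.snd_mul, hfst, hfst, op_smul_eq_smul]
  let δ := Δ.liftKaehlerDifferential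
  have hδ : ∀ x, δ (D A C x) = (L x).snd := fun x => Δ.liftKaehlerDifferential_comp_D x
  let ε : C ⊗[A] K →ₗ[C] Ω[C⁄A] :=
    LinearMap.liftBaseChange C ((D A C).toLinearMap ∘ₗ SymmetricAlgebra.ι A K)
  have hεk : ∀ k, ε ((1 : C) ⊗ₜ k) = D A C (SymmetricAlgebra.ι A K k) := fun k => by
    show LinearMap.liftBaseChange C _ _ = _
    rw [LinearMap.liftBaseChange_tmul, one_smul]
    rfl
  have hδk : ∀ k, δ (D A C (SymmetricAlgebra.ι A K k)) = (1 : C) ⊗ₜ k := fun k => by
    rw [hδ, hLι, TrivSqZeroExt.snd_add, TrivSqZeroExt.snd_inl, TrivSqZeroExt.snd_inr, zero_add]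
  have hδε : ∀ z, δ (ε z) = z := fun z => by
    induction z using TensorProduct.induction_on with
    | zero => rw [map_zero, map_zero]
    | tmul x k =>
      rw [show x ⊗ₜ[A] k = x • ((1 : C) ⊗ₜ[A] k) by rw [smul_tmul', smul_eq_mul, mul_one],
        map_smul, map_smul, hεk, hδk]
    | add a b ha hb => rw [map_add, map_add, ha, hb]
  have hεδ : ∀ x, ε (δ (D A C x)) = D A C x := fun x => by
    induction x using SymmetricAlgebra.induction with
    | algebraMap r => rw [Derivation.map_algebraMap, map_zero, map_zero]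
    | ι k => rw [hδk, hεk]
    | mul x y hx hy => rw [Derivation.leibniz, map_add, map_add, map_smul, map_smul, map_smul, map_smul, hx, hy]
    | add x y hx hy => rw [map_add, map_add, map_add, hx, hy]
  exact ⟨LinearEquiv.ofLinearMap δ ε (LinearMap.ext hδε)
    (LinearMap.ext_on (span_range_derivation A C) (by rintro _ ⟨x, rfl⟩; exact hεδ x))⟩

end Kaehler

theorem isUnit_of_isUnit_mk {S : Type u} [CommRing S] (I : Ideal S) (hI : I ^ 2 = ⊥) {x : S}
    (hx : IsUnit (Ideal.Quotient.mk I x)) : IsUnit x := by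
  obtain ⟨y, hy⟩ := hx.exists_right_inv
  obtain ⟨y, rfl⟩ := Ideal.Quotient.mk_surjective y
  have hm : x * y - 1 ∈ I := Ideal.Quotient.eq.1 (by rw [map_mul, hy, map_one])
  have h2 : (x * y - 1) * (x * y - 1) = 0 := by
    have := Ideal.mul_mem_mul hm hm
    rwa [← pow_two, hI, Ideal.mem_bot] at this
  exact IsUnit.of_mul_eq_one (y * (2 - x * y)) (by linear_combination -h2)

variable (A K : Type u) [CommRing A] [AddCommGroup K] [Module A K] (a : A)

theorem formallySmooth_localization_symmetricAlgebra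
    [Module.Projective (Localization.Away a) (Localization.Away a ⊗[A] K)]
    (C' : Type u) [CommRing C'] [Algebra (SymmetricAlgebra A K) C'] [Algebra A C']
    [IsScalarTower A (SymmetricAlgebra A K) C']
    [IsLocalization.Away (algebraMap A (SymmetricAlgebra A K) a) C'] :
    Algebra.FormallySmooth A C' := by
  refine Algebra.FormallySmooth.iff_comp_surjective.2 fun S _ _ I hI g => ?_
  let Aa := Localization.Away a
  have haS : IsUnit (algebraMap A S a) := isUnit_of_isUnit_mk I hI (by
    have h : IsUnit (algebraMap A C' a) := by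
      rw [IsScalarTower.algebraMap_apply A (SymmetricAlgebra A K) C']
      exact IsLocalization.Away.algebraMap_isUnit _
    have h2 := h.map g
    rw [AlgHom.commutes] at h2
    exact h2)
  letI : Algebra Aa S := (IsLocalization.Away.lift (S := Aa) a haS).toAlgebra
  haveI : IsScalarTower A Aa S := IsScalarTower.of_algebraMap_eq fun r =>
    (IsLocalization.Away.lift_eq (S := Aa) a haS r).symm
  let g₀ : K →ₗ[A] S ⧸ I :=
    g.toLinearMap ∘ₗ (IsScalarTower.toAlgHom A (SymmetricAlgebra A K) C').toLinearMap ∘ₗ SymmetricAlgebra.ι A K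
  obtain ⟨l, hl⟩ := Module.projective_lifting_property (Ideal.Quotient.mkₐ Aa I).toLinearMap
    (LinearMap.liftBaseChange Aa g₀) (Ideal.Quotient.mkₐ_surjective Aa I)
  let l₀ : K →ₗ[A] S := l.restrictScalars A ∘ₗ TensorProduct.mk A Aa K 1
  let L := SymmetricAlgebra.lift l₀
  have hL : ∀ x : SymmetricAlgebra A K,
      Ideal.Quotient.mkₐ A I (L x) = g (algebraMap (SymmetricAlgebra A K) C' x) := by
    intro x
    refine DFunLike.congr_fun (f := (Ideal.Quotient.mkₐ A I).comp L)
      (g := g.comp (IsScalarTower.toAlgHom A (SymmetricAlgebra A K) C'))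
      (SymmetricAlgebra.algHom_ext (LinearMap.ext fun k => ?_)) x
    show Ideal.Quotient.mkₐ A I (L (SymmetricAlgebra.ι A K k)) = g₀ k
    rw [SymmetricAlgebra.lift_ι_apply]
    refine (LinearMap.congr_fun hl ((1 : Aa) ⊗ₜ k)).trans ?_
    rw [LinearMap.liftBaseChange_tmul, one_smul]
  have hLa : ∀ y : Submonoid.powers (algebraMap A (SymmetricAlgebra A K) a), IsUnit (L y) := by
    rintro ⟨_, k, rfl⟩
    simpa using haS.pow k
  refine ⟨IsLocalization.liftAlgHom (f := L) hLa, AlgHom.coe_ringHom_injective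
    (IsLocalization.ringHom_ext (Submonoid.powers (algebraMap A (SymmetricAlgebra A K) a))
      (RingHom.ext fun x => ?_))⟩
  show Ideal.Quotient.mkₐ A I (IsLocalization.liftAlgHom (f := L) hLa (algebraMap _ C' x)) = _
  rw [IsLocalization.liftAlgHom_apply, IsLocalization.lift_eq]
  exact hL x

theorem nonempty_kaehlerLocalizationEquiv
    (C' : Type u) [CommRing C'] [Algebra (SymmetricAlgebra A K) C'] [Algebra A C']
    [IsScalarTower A (SymmetricAlgebra A K) C']
    (M : Submonoid (SymmetricAlgebra A K)) [IsLocalization M C'] :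
    Nonempty (Ω[C'⁄A] ≃ₗ[C'] C' ⊗[A] K) := by
  obtain ⟨e⟩ := nonempty_kaehlerSymmetricAlgebraEquiv A K
  haveI := Algebra.FormallyEtale.of_isLocalization (Rₘ := C') M
  exact ⟨(tensorKaehlerEquivOfFormallyEtale A (SymmetricAlgebra A K) C').symm ≪≫ₗ
    AlgebraTensorModule.congr (LinearEquiv.refl C' C') e ≪≫ₗ
    AlgebraTensorModule.cancelBaseChange A (SymmetricAlgebra A K) C' C' K⟩

theorem finiteType_symmetricAlgebra [Module.Finite A K] :
    Algebra.FiniteType A (SymmetricAlgebra A K) := by
  obtain ⟨k, f, hf⟩ := Module.Finite.exists_fin' A K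
  refine Algebra.FiniteType.of_surjective
    (MvPolynomial.aeval fun j : Fin k => SymmetricAlgebra.ι A K (f (Pi.single j 1))) fun x => ?_
  induction x using SymmetricAlgebra.induction with
  | algebraMap r => exact ⟨MvPolynomial.C r, MvPolynomial.aeval_C _ r⟩
  | ι q =>
    obtain ⟨v, rfl⟩ := hf q
    refine ⟨∑ j, v j • MvPolynomial.X j, ?_⟩
    conv_rhs => rw [pi_eq_sum_univ' v, map_sum, map_sum]
    simp only [map_sum, map_smul, MvPolynomial.aeval_X]
  | mul x y hx hy => obtain ⟨p, rfl⟩ := hx; obtain ⟨q, rfl⟩ := hy; exact ⟨p * q, map_mul _ p q⟩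
  | add x y hx hy => obtain ⟨p, rfl⟩ := hx; obtain ⟨q, rfl⟩ := hy; exact ⟨p + q, map_add _ p q⟩

variable (R : Type u) [CommRing R] [Algebra R A]

theorem free_kaehler_localization {n : ℕ} (σ : (Fin n → A) →ₗ[A] Ω[A⁄R]) (hσ : Function.Surjective σ)
    [Algebra.FormallySmooth R (Localization.Away a)]
    (C' : Type u) [CommRing C'] [Algebra (SymmetricAlgebra A (LinearMap.ker σ)) C'] [Algebra A C'] [Algebra R C']
    [IsScalarTower A (SymmetricAlgebra A (LinearMap.ker σ)) C'] [IsScalarTower R A C']
    [IsLocalization.Away (algebraMap A (SymmetricAlgebra A (LinearMap.ker σ)) a) C'] :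
    Module.Free C' Ω[C'⁄R] := by
  let Aa := Localization.Away a
  haveI : Algebra.FormallyEtale A Aa := Algebra.FormallyEtale.of_isLocalization (Submonoid.powers a)
  haveI : Module.Flat A Aa := IsLocalization.flat Aa (Submonoid.powers a)
  haveI hP : Module.Projective Aa (Aa ⊗[A] Ω[A⁄R]) :=
    Module.Projective.of_equiv (tensorKaehlerEquivOfFormallyEtale R A Aa).symm
  let i := AlgebraTensorModule.lTensor Aa Aa (LinearMap.ker σ).subtype
  let q := AlgebraTensorModule.lTensor Aa Aa σ
  have hi : Function.Injective i :=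
    Module.Flat.lTensor_preserves_injective_linearMap (M := Aa) _ Subtype.val_injective
  have hiq : Function.Exact i q := Module.Flat.lTensor_exact Aa (LinearMap.exact_subtype_ker_map σ)
  obtain ⟨l, hl⟩ := Module.projective_lifting_property q LinearMap.id (LinearMap.lTensor_surjective Aa hσ)
  obtain ⟨e₁, -, -⟩ := hiq.splitSurjectiveEquiv hi ⟨l, hl⟩
  haveI : Module.Projective Aa (Aa ⊗[A] LinearMap.ker σ) :=
    Module.Projective.of_split (e₁.symm.toLinearMap ∘ₗ LinearMap.inl Aa _ _)
      (LinearMap.fst Aa _ _ ∘ₗ e₁.toLinearMap) (LinearMap.ext fun x => by simp)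
  haveI := formallySmooth_localization_symmetricAlgebra A (LinearMap.ker σ) a C'
  have hinj : Function.Injective (mapBaseChange R A C') := by
    rw [injective_iff_map_eq_zero]
    intro x hx
    obtain ⟨x, rfl⟩ := (Algebra.H1Cotangent.exact_δ_mapBaseChange R A C' x).mp hx
    rw [Subsingleton.elim x 0, map_zero]
  obtain ⟨l', hl'⟩ := Module.projective_lifting_property (KaehlerDifferential.map R A C' C') LinearMap.id
    (KaehlerDifferential.map_surjective R A C')
  obtain ⟨e₂, -, -⟩ := (exact_mapBaseChange_map R A C').splitSurjectiveEquiv hinj ⟨l', hl'⟩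
  obtain ⟨e₃⟩ := nonempty_kaehlerLocalizationEquiv A (LinearMap.ker σ) C'
    (Submonoid.powers (algebraMap A (SymmetricAlgebra A (LinearMap.ker σ)) a))
  have haC : IsUnit (algebraMap A C' a) := by
    rw [IsScalarTower.algebraMap_apply A (SymmetricAlgebra A (LinearMap.ker σ)) C']
    exact IsLocalization.Away.algebraMap_isUnit _
  letI : Algebra Aa C' := (IsLocalization.Away.lift (S := Aa) a haC).toAlgebra
  haveI : IsScalarTower A Aa C' := IsScalarTower.of_algebraMap_eq fun r =>
    (IsLocalization.Away.lift_eq (S := Aa) a haC r).symm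
  let e₄ : C' ⊗[A] (Fin n → A) ≃ₗ[C'] (C' ⊗[A] LinearMap.ker σ) × (C' ⊗[A] Ω[A⁄R]) :=
    (AlgebraTensorModule.cancelBaseChange A Aa C' C' (Fin n → A)).symm ≪≫ₗ
    AlgebraTensorModule.congr (LinearEquiv.refl C' C') e₁ ≪≫ₗ
    TensorProduct.prodRight Aa C' C' _ _ ≪≫ₗ
    (AlgebraTensorModule.cancelBaseChange A Aa C' C' _).prodCongr
      (AlgebraTensorModule.cancelBaseChange A Aa C' C' _)
  exact Module.Free.of_equiv
    (e₄ ≪≫ₗ LinearEquiv.prodComm C' _ _ ≪≫ₗ (LinearEquiv.refl C' _).prodCongr e₃.symm ≪≫ₗ e₂.symm)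

theorem exists_retract_free_kaehler [Algebra.FinitePresentation R A] :
    ∃ (C : Type u) (_ : CommRing C) (_ : Algebra A C) (_ : Algebra R C) (_ : IsScalarTower R A C),
      Algebra.FiniteType A C ∧ Nonempty (C →ₐ[A] A) ∧
      ∀ a : A, Algebra.Smooth R (Localization.Away a) →
        Module.Free (Localization.Away (algebraMap A C a)) Ω[Localization.Away (algebraMap A C a)⁄R] := by
  obtain ⟨n, σ, hσ⟩ := Module.Finite.exists_fin' A Ω[A⁄R]
  haveI : Module.Finite A (LinearMap.ker σ) := .of_fg (Module.FinitePresentation.fg_ker σ hσ)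
  refine ⟨SymmetricAlgebra A (LinearMap.ker σ), inferInstance, inferInstance, inferInstance,
    IsScalarTower.of_algebraMap_eq fun _ => rfl,
    finiteType_symmetricAlgebra A _, ⟨SymmetricAlgebra.algebraMapInv⟩, fun a h => ?_⟩
  haveI : Algebra.FormallySmooth R (Localization.Away a) := h.formallySmooth
  haveI : IsScalarTower R A (SymmetricAlgebra A (LinearMap.ker σ)) := IsScalarTower.of_algebraMap_eq fun _ => rfl
  haveI : IsScalarTower R A (Localization.Away (algebraMap A (SymmetricAlgebra A (LinearMap.ker σ)) a)) :=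
    IsScalarTower.to₁₂₄ R A (SymmetricAlgebra A (LinearMap.ker σ)) _
  exact free_kaehler_localization A a R σ hσ _

end Groth.Agent.SmoothRetractH7
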