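import Groth.Agent.Lib.SmoothRetractH7.Sym
import Mathlib.RingTheory.Smooth.StandardSmoothOfFree
import Mathlib.RingTheory.Etale.Kaehler
import Mathlib.RingTheory.Kaehler.Basic
import Mathlib.LinearAlgebra.Determinant
import Mathlib.Algebra.TrivSqZeroExt.Basic
import Mathlib.RingTheory.FiniteType

/-!
# Every smooth algebra is a retract of a standard smooth one

`B` is a localisation of the symmetric algebra of a complement of `Ω` in a free module.
-/

set_option autoImplicit false
set_option linter.style.haveILetI false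
universe u

open KaehlerDifferential

namespace Groth.Agent.SmoothRetractH7

/-- The trivial square zero extension of `S` by `S^n`, without scalar actions of other rings. -/
def Tw (S : Type u) [CommRing S] (n : ℕ) : Type u := TrivSqZeroExt S (Fin n → S)

noncomputable instance (S : Type u) [CommRing S] (n : ℕ) : CommRing (Tw S n) :=
  inferInstanceAs (CommRing (TrivSqZeroExt S (Fin n → S)))

namespace Tw

variable {S : Type u} [CommRing S] {n : ℕ}

/-- The element with given components. -/
def mk (x : S) (g : Fin n → S) : Tw S n := ((x, g) : S × (Fin n → S))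
/-- The first component. -/
def fst (z : Tw S n) : S := TrivSqZeroExt.fst z
/-- The second component. -/
def snd (z : Tw S n) : Fin n → S := TrivSqZeroExt.snd z

theorem fst_mk (x : S) (g : Fin n → S) : (mk x g).fst = x := rfl
theorem snd_mk (x : S) (g : Fin n → S) : (mk x g).snd = g := rfl
theorem fst_mul (z w : Tw S n) : (z * w).fst = z.fst * w.fst := rfl
theorem snd_mul (z w : Tw S n) : (z * w).snd = z.fst • w.snd + w.fst • z.snd :=
  (TrivSqZeroExt.snd_mul z w).trans (by rw [op_smul_eq_smul]; rfl)
theorem fst_add (z w : Tw S n) : (z + w).fst = z.fst + w.fst := rfl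
theorem snd_add (z w : Tw S n) : (z + w).snd = z.snd + w.snd := rfl
theorem fst_one : (1 : Tw S n).fst = 1 := rfl
theorem snd_one : (1 : Tw S n).snd = 0 := rfl
theorem fst_zero : (0 : Tw S n).fst = 0 := rfl
theorem snd_zero : (0 : Tw S n).snd = 0 := rfl
theorem ext {z w : Tw S n} (h₁ : z.fst = w.fst) (h₂ : z.snd = w.snd) : z = w := TrivSqZeroExt.ext h₁ h₂

end Tw

theorem span_D_eq_top {R A : Type u} [CommRing R] [CommRing A] [Algebra R A] {n : ℕ} (y : Fin n → A)
    (hy : Algebra.adjoin R (Set.range y) = ⊤) : Submodule.span A (Set.range (D R A ∘ y)) = ⊤ := by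
  rw [eq_top_iff, ← span_range_derivation, Submodule.span_le]
  rintro _ ⟨a, rfl⟩
  have ha : a ∈ Algebra.adjoin R (Set.range y) := hy ▸ Algebra.mem_top
  show D R A a ∈ Submodule.span A (Set.range (D R A ∘ y))
  induction ha using Algebra.adjoin_induction with
  | mem x hx => obtain ⟨i, rfl⟩ := hx; exact Submodule.subset_span ⟨i, rfl⟩
  | algebraMap r => rw [Derivation.map_algebraMap]; exact zero_mem _
  | add _ _ _ _ hx hy => rw [map_add]; exact add_mem hx hy
  | mul _ _ _ _ hx hy => rw [Derivation.leibniz]; exact add_mem (Submodule.smul_mem _ _ hy) (Submodule.smul_mem _ _ hx)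

theorem exists_retract_isStandardSmooth (R A : Type u) [CommRing R] [CommRing A] [Algebra R A]
    [Algebra.Smooth R A] :
    ∃ (B : Type u) (_ : CommRing B) (_ : Algebra R B) (_ : Algebra A B) (_ : IsScalarTower R A B),
      Algebra.Smooth A B ∧ Nonempty (B →ₐ[A] A) ∧ Algebra.IsStandardSmooth R B := by
  classical
  obtain ⟨n, ψ, hψ⟩ := Algebra.FiniteType.iff_quotient_mvPolynomial''.mp
    (inferInstance : Algebra.FiniteType R A)
  let y : Fin n → A := fun i => ψ (MvPolynomial.X i)
  have hy : Algebra.adjoin R (Set.range y) = ⊤ := by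
    rw [show Set.range y = ψ '' Set.range MvPolynomial.X from Set.range_comp' ψ MvPolynomial.X,
      ← AlgHom.map_adjoin, MvPolynomial.adjoin_range_X, Algebra.map_top, AlgHom.range_eq_top]
    exact hψ
  let σ := Fintype.linearCombination A (D R A ∘ y)
  have hσ : Function.Surjective σ := by
    rw [← LinearMap.range_eq_top, Fintype.range_linearCombination]
    exact span_D_eq_top y hy
  obtain ⟨s, hs⟩ := Module.projective_lifting_property σ LinearMap.id hσ
  have hσs : ∀ w, σ (s w) = w := fun w => LinearMap.congr_fun hs w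
  let π : (Fin n → A) →ₗ[A] (Fin n → A) := LinearMap.id - s ∘ₗ σ
  have hσπ : ∀ v, σ (π v) = 0 := fun v => by simp [π, map_sub, hσs]
  have hππ : ∀ v, π (π v) = π v := fun v => by
    conv_lhs => rw [show π (π v) = π v - s (σ (π v)) from rfl, hσπ, map_zero, sub_zero]
  have hπs : ∀ w, π (s w) = 0 := fun w => by simp [π, hσs]
  let Q := LinearMap.range π
  haveI : Module.Finite A Q := Module.Finite.range π
  haveI : Module.Projective A Q := Module.Projective.of_split Q.subtype π.rangeRestrict (by
    refine LinearMap.ext fun q => Subtype.ext ?_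
    obtain ⟨_, v, rfl⟩ := q
    exact hππ v)
  let B₀ := SymmetricAlgebra A Q
  haveI := formallySmooth_symmetricAlgebra A Q
  haveI := finitePresentation_symmetricAlgebra A Q
  haveI hRAB₀ : IsScalarTower R A B₀ := IsScalarTower.of_algebraMap_eq fun _ => rfl
  let ι' : (Fin n → A) →ₗ[A] B₀ := SymmetricAlgebra.ι A Q ∘ₗ π.rangeRestrict
  have hι'π : ∀ v, ι' (π v) = ι' v := fun v => congrArg (SymmetricAlgebra.ι A Q) (Subtype.ext (hππ v))
  have hι's : ∀ w, ι' (s w) = 0 := fun w =>
    (congrArg (SymmetricAlgebra.ι A Q) (Subtype.ext (hπs w) : π.rangeRestrict (s w) = 0)).trans (map_zero _)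
  let p : Fin n → B₀ := fun j => ι' (Pi.single j 1)
  have hp : ∀ v, ι' v = ∑ j, v j • p j := fun v => by
    conv_lhs => rw [pi_eq_sum_univ' v, map_sum]
    exact Finset.sum_congr rfl fun j _ => by rw [map_smul]
  let c : (Fin n → A) →ₗ[A] (Fin n → B₀) := (Algebra.linearMap A B₀).compLeft (Fin n)
  have hc : ∀ (a : A) (g : Fin n → B₀), algebraMap A B₀ a • g = a • g := fun a g => algebraMap_smul B₀ a g
  let T : (Fin n → A) → (Fin n → B₀) := fun v => ∑ j, p j • c (s (D R A (v j)))
  have hTadd : ∀ v w, T (v + w) = T v + T w := fun v w => by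
    simp only [T, Pi.add_apply, map_add, smul_add, Finset.sum_add_distrib]
  have hTsmul : ∀ (a : A) v, T (a • v) = algebraMap A B₀ a • T v + ι' v • c (s (D R A a)) := fun a v => by
    simp only [T, Pi.smul_apply, smul_eq_mul, Derivation.leibniz, map_add, map_smul, smul_add,
      Finset.sum_add_distrib, Finset.smul_sum]
    refine congrArg₂ (· + ·) (Finset.sum_congr rfl fun j _ => ?_) ?_
    · rw [hc, smul_comm]
    · rw [hp v, Finset.sum_smul]
      exact Finset.sum_congr rfl fun j _ => by rw [← hc (v j), smul_smul, Algebra.smul_def (v j) (p j), mul_comm]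
  -- the derivation `Δ`
  let f : A →+* Tw B₀ n :=
    { toFun := fun a => Tw.mk (algebraMap A B₀ a) (c (s (D R A a)))
      map_one' := Tw.ext (by rw [Tw.fst_mk, Tw.fst_one, map_one])
        (by rw [Tw.snd_mk, Tw.snd_one, Derivation.map_one_eq_zero, map_zero, map_zero])
      map_zero' := Tw.ext (by rw [Tw.fst_mk, Tw.fst_zero, map_zero])
        (by rw [Tw.snd_mk, Tw.snd_zero, map_zero, map_zero, map_zero])
      map_add' := fun a b => Tw.ext (by rw [Tw.fst_mk, Tw.fst_add, Tw.fst_mk, Tw.fst_mk, map_add])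
        (by simp only [Tw.snd_mk, Tw.snd_add, map_add])
      map_mul' := fun a b => Tw.ext (by rw [Tw.fst_mk, Tw.fst_mul, Tw.fst_mk, Tw.fst_mk, map_mul])
        (by simp only [Tw.snd_mk, Tw.snd_mul, Tw.fst_mk, Derivation.leibniz, map_add, map_smul, hc]) }
  letI : Algebra A (Tw B₀ n) := f.toAlgebra
  have hfst : ∀ a, (algebraMap A (Tw B₀ n) a).fst = algebraMap A B₀ a := fun a => rfl
  have hsnd : ∀ a, (algebraMap A (Tw B₀ n) a).snd = c (s (D R A a)) := fun a => rfl
  let φ : Q →ₗ[A] Tw B₀ n :=
    { toFun := fun q => Tw.mk (SymmetricAlgebra.ι A Q q) (c q.1 + T q.1)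
      map_add' := fun q q' => Tw.ext (by rw [Tw.fst_mk, Tw.fst_add, Tw.fst_mk, Tw.fst_mk, map_add]) (by
        simp only [Tw.snd_mk, Tw.snd_add, Submodule.coe_add, map_add, hTadd]
        abel)
      map_smul' := fun a q => by
        have hq : ι' q.1 = SymmetricAlgebra.ι A Q q := by
          obtain ⟨_, v, rfl⟩ := q
          exact congrArg (SymmetricAlgebra.ι A Q) (Subtype.ext (hππ v))
        rw [RingHom.id_apply, Algebra.smul_def a (Tw.mk _ _)]
        refine Tw.ext ?_ ?_
        · rw [Tw.fst_mul, Tw.fst_mk, Tw.fst_mk, hfst, map_smul, Algebra.smul_def]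
        · rw [Tw.snd_mul, Tw.snd_mk, Tw.fst_mk, Tw.snd_mk, hfst, hsnd, Submodule.coe_smul, map_smul, hTsmul,
            hq, smul_add, hc, hc, add_assoc] }
  let L := SymmetricAlgebra.lift φ
  have hLι : ∀ q, L (SymmetricAlgebra.ι A Q q) = Tw.mk (SymmetricAlgebra.ι A Q q) (c q.1 + T q.1) := fun q =>
    SymmetricAlgebra.lift_ι_apply φ q
  have hLfst : ∀ x, (L x).fst = x := fun x => by
    induction x using SymmetricAlgebra.induction with
    | algebraMap a => rw [AlgHom.commutes]; exact hfst a
    | ι q => rw [hLι, Tw.fst_mk]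
    | mul a b ha hb => rw [map_mul, Tw.fst_mul, ha, hb]
    | add a b ha hb => rw [map_add, Tw.fst_add, ha, hb]
  let Δ₀ : B₀ →ₗ[R] (Fin n → B₀) :=
    { toFun := fun x => (L x).snd
      map_add' := fun x x' => by rw [map_add, Tw.snd_add]
      map_smul' := fun r x => by
        rw [Algebra.smul_def, map_mul, Tw.snd_mul, hLfst, hLfst,
          RingHom.id_apply, IsScalarTower.algebraMap_apply R A B₀,
          AlgHom.commutes, hsnd, Derivation.map_algebraMap, map_zero, map_zero, smul_zero, add_zero,
          ← IsScalarTower.algebraMap_apply, algebraMap_smul] }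
  let Δ : Derivation R B₀ (Fin n → B₀) := Derivation.mk' Δ₀ fun x x' => by
    show (L (x * x')).snd = x • (L x').snd + x' • (L x).snd
    rw [map_mul, Tw.snd_mul, hLfst, hLfst]
  let μ : Ω[A⁄R] →ₗ[A] Ω[B₀⁄R] := KaehlerDifferential.map R R A B₀
  let δ := Δ.liftKaehlerDifferential
  have hδD : ∀ x, δ (D R B₀ x) = (L x).snd := fun x => Δ.liftKaehlerDifferential_comp_D x
  have hδμ : ∀ w, δ (μ w) = c (s w) := fun w => by
    have : (δ.restrictScalars A) ∘ₗ μ = c ∘ₗ s := LinearMap.ext_on (span_range_derivation R A) (by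
      rintro _ ⟨a, rfl⟩
      show δ (μ (D R A a)) = c (s (D R A a))
      rw [show μ (D R A a) = D R B₀ (algebraMap A B₀ a) from KaehlerDifferential.map_D R R A B₀ a,
        hδD, AlgHom.commutes]
      exact hsnd a)
    exact LinearMap.congr_fun this w
  let ηF : (Fin n → A) →ₗ[A] Ω[B₀⁄R] :=
    { toFun := fun v => μ (σ v) + D R B₀ (ι' v) - ∑ j, p j • μ (D R A (π v j))
      map_add' := fun v w => by
        simp only [map_add, Pi.add_apply, smul_add, Finset.sum_add_distrib]
        abel
      map_smul' := fun a v => by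
        simp only [RingHom.id_apply, map_smul, Pi.smul_apply, smul_eq_mul, Derivation.leibniz, map_add,
          smul_add, Finset.sum_add_distrib, Finset.smul_sum, smul_sub]
        rw [Algebra.smul_def a (ι' v), Derivation.leibniz,
          show D R B₀ (algebraMap A B₀ a) = μ (D R A a) from (KaehlerDifferential.map_D R R A B₀ a).symm,
          algebraMap_smul]
        have h1 : ∑ j, p j • (π v j • μ (D R A a)) = ι' v • μ (D R A a) := by
          rw [← hι'π v, hp (π v), Finset.sum_smul]
          refine Finset.sum_congr rfl fun j _ => ?_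
          rw [smul_assoc, smul_comm]
        have h2 : ∑ j, p j • (a • μ (D R A (π v j))) = ∑ j, a • (p j • μ (D R A (π v j))) :=
          Finset.sum_congr rfl fun j _ => smul_comm _ _ _
        rw [h1, h2]
        abel }
  have hδηF : ∀ v, δ (ηF v) = c v := fun v => by
    show δ (μ (σ v) + D R B₀ (ι' v) - ∑ j, p j • μ (D R A (π v j))) = c v
    rw [map_sub, map_add, map_sum, hδμ, hδD]
    simp only [map_smul, hδμ]
    show c (s (σ v)) + (L (SymmetricAlgebra.ι A Q (π.rangeRestrict v))).snd - T (π v) = c v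
    rw [hLι, Tw.snd_mk]
    show c (s (σ v)) + (c (π v) + T (π v)) - T (π v) = c v
    rw [← add_assoc, add_sub_cancel_right, ← map_add]
    congr 1
    show s (σ v) + (v - s (σ v)) = v
    abel
  let η := (Pi.basisFun B₀ (Fin n)).constr B₀ (fun i => ηF (Pi.single i 1))
  have hcsingle : ∀ i, c (Pi.single i 1) = Pi.single i 1 := fun i => by
    funext j
    show algebraMap A B₀ ((Pi.single i (1 : A) : Fin n → A) j) = (Pi.single i (1 : B₀) : Fin n → B₀) j
    rcases eq_or_ne j i with rfl | hne
    · simp
    · simp [Pi.single_eq_of_ne hne]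
  have hηi : ∀ i, η (Pi.single i 1) = ηF (Pi.single i 1) := fun i => by
    conv_lhs => rw [← Pi.basisFun_apply B₀ (Fin n) i]
    exact (Pi.basisFun B₀ (Fin n)).constr_basis B₀ _ i
  have hηc : ∀ v, η (c v) = ηF v := fun v => by
    have : (η.restrictScalars A) ∘ₗ c = ηF := (Pi.basisFun A (Fin n)).ext fun i => by
      rw [Pi.basisFun_apply]
      show η (c (Pi.single i 1)) = _
      rw [hcsingle, hηi]
    exact LinearMap.congr_fun this v
  have hηs : ∀ w, η (c (s w)) = μ w := fun w => by
    rw [hηc]
    show μ (σ (s w)) + D R B₀ (ι' (s w)) - ∑ j, p j • μ (D R A (π (s w) j)) = μ w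
    rw [hσs, hι's, map_zero, hπs]
    simp
  have hηsurj : Function.Surjective η := by
    rw [← LinearMap.range_eq_top, eq_top_iff, ← span_range_derivation, Submodule.span_le]
    rintro _ ⟨x, rfl⟩
    show D R B₀ x ∈ LinearMap.range η
    induction x using SymmetricAlgebra.induction with
    | algebraMap a => exact ⟨c (s (D R A a)), (hηs _).trans (KaehlerDifferential.map_D R R A B₀ a)⟩
    | ι q =>
      obtain ⟨_, v, rfl⟩ := q
      have hq : ι' (π v) = SymmetricAlgebra.ι A Q ⟨π v, v, rfl⟩ :=
        congrArg (SymmetricAlgebra.ι A Q) (Subtype.ext (hππ v))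
      refine ⟨c (π v) + ∑ j, p j • c (s (D R A (π v j))), ?_⟩
      simp only [map_add, map_sum, map_smul, hηs, hηc, ← hq]
      show μ (σ (π v)) + D R B₀ (ι' (π v)) - ∑ j, p j • μ (D R A (π (π v) j)) + _ = _
      rw [hσπ, hππ, map_zero, zero_add, sub_add_cancel]
    | mul a b ha hb =>
      rw [Derivation.leibniz]
      exact add_mem (Submodule.smul_mem _ _ hb) (Submodule.smul_mem _ _ ha)
    | add a b ha hb => rw [map_add]; exact add_mem ha hb
  have hδη : ∀ g, δ (η g) = g := fun g => by
    have : δ ∘ₗ η = LinearMap.id := (Pi.basisFun B₀ (Fin n)).ext fun i => by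
      rw [Pi.basisFun_apply]
      show δ (η (Pi.single i 1)) = _
      rw [hηi, hδηF, hcsingle]
      rfl
    exact LinearMap.congr_fun this g
  let b₀ : Module.Basis (Fin n) B₀ Ω[B₀⁄R] := (Pi.basisFun B₀ (Fin n)).map
    (LinearEquiv.ofBijective η ⟨Function.LeftInverse.injective hδη, hηsurj⟩)
  let w : Fin n → B₀ := fun i => algebraMap A B₀ (y i) + p i
  have hw : ∀ i, b₀.repr (D R B₀ (w i)) = Finsupp.equivFunOnFinite.symm (Pi.single i 1 + T (π (Pi.single i 1))) := by
    intro i
    have e : D R B₀ (w i) = η (Pi.single i 1 + T (π (Pi.single i 1))) := by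
      rw [map_add η, hηi]
      show D R B₀ (algebraMap A B₀ (y i) + p i) = _
      simp only [T, map_sum, map_smul, hηs]
      show _ = μ (σ (Pi.single i 1)) + D R B₀ (ι' (Pi.single i 1)) - ∑ j, p j • μ (D R A (π (Pi.single i 1) j)) + _
      rw [sub_add_cancel, map_add, show σ (Pi.single i 1) = D R A (y i) by simp [σ],
        show μ (D R A (y i)) = D R B₀ (algebraMap A B₀ (y i)) from KaehlerDifferential.map_D R R A B₀ (y i)]
    rw [e]
    apply b₀.repr.symm.injective
    rw [LinearEquiv.symm_apply_apply, Module.Basis.repr_symm_apply, Finsupp.linearCombination_apply,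
      Finsupp.sum_fintype]
    rotate_left
    · exact fun j => zero_smul B₀ _
    simp only [Finsupp.equivFunOnFinite_symm_apply_apply]
    conv_lhs => rw [pi_eq_sum_univ' (Pi.single i 1 + T (π (Pi.single i 1))), map_sum]
    refine Finset.sum_congr rfl fun j _ => ?_
    rw [map_smul]
    congr 1
    simp [b₀]
  let M : Matrix (Fin n) (Fin n) B₀ := b₀.toMatrix fun i => D R B₀ (w i)
  let r : B₀ →ₐ[A] A := SymmetricAlgebra.algebraMapInv
  have hr : r M.det = 1 := by
    rw [AlgHom.map_det]
    convert Matrix.det_one (R := A) (n := Fin n)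
    ext j i
    have hrp : ∀ k, r (p k) = 0 := fun k => SymmetricAlgebra.algebraMapInv_ι _
    show r (b₀.repr (D R B₀ (w i)) j) = _
    rw [hw, Finsupp.equivFunOnFinite_symm_apply_apply, Pi.add_apply, map_add]
    have hT0 : r (T (π (Pi.single i 1)) j) = 0 := by
      simp only [T, Finset.sum_apply, Pi.smul_apply, map_sum, smul_eq_mul, map_mul, hrp, zero_mul, Finset.sum_const_zero]
    rw [hT0, add_zero]
    rcases eq_or_ne j i with rfl | hne
    · simp
    · simp [Pi.single_eq_of_ne hne, Matrix.one_apply_ne hne]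
  let B := Localization.Away M.det
  haveI : IsScalarTower R A B := IsScalarTower.to₁₂₄ R A B₀ B
  haveI : Algebra.Smooth A B₀ := ⟨inferInstance, inferInstance⟩
  haveI : Algebra.Smooth A B := Algebra.Smooth.comp A B₀ B
  haveI : Algebra.Smooth R B := Algebra.Smooth.comp R A B
  have hu : IsUnit (r M.det) := by rw [hr]; exact isUnit_one
  refine ⟨B, inferInstance, inferInstance, inferInstance, inferInstance, inferInstance,
    ⟨IsLocalization.liftAlgHom (M := Submonoid.powers M.det) (f := r) (by
      rintro ⟨_, k, rfl⟩; simpa using hu.pow k)⟩, ?_⟩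
  let b : Module.Basis (Fin n) B Ω[B⁄R] :=
    b₀.ofIsLocalizedModule B (Submonoid.powers M.det) (KaehlerDifferential.map R R B₀ B)
  have hmat : b.toMatrix (fun i => D R B (algebraMap B₀ B (w i))) = M.map (algebraMap B₀ B) := by
    ext j i
    show b.repr (D R B (algebraMap B₀ B (w i))) j = algebraMap B₀ B (b₀.repr (D R B₀ (w i)) j)
    rw [← KaehlerDifferential.map_D R R B₀ B, Module.Basis.ofIsLocalizedModule_repr_apply]
  have hdet : IsUnit (b.det fun i => D R B (algebraMap B₀ B (w i))) := by
    rw [Module.Basis.det_apply, hmat]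
    have := IsLocalization.Away.algebraMap_isUnit (S := B) M.det
    rwa [RingHom.map_det] at this
  obtain ⟨hli, hspan⟩ := (Module.Basis.is_basis_iff_det b).2 hdet
  exact Algebra.IsStandardSmooth.of_basis_kaehlerDifferential (Module.Basis.mk hli hspan.ge)
    (by rintro _ ⟨i, rfl⟩; exact ⟨_, (Module.Basis.mk_apply hli hspan.ge i).symm⟩)

end Groth.Agent.SmoothRetractH7
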