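import Groth.Agent.Lib.SmoothRetractH7.Free
import Mathlib.RingTheory.Smooth.Basic
import Mathlib.RingTheory.Etale.Basic

/-!
The retract with free differentials is also smooth over the smooth locus.
-/

set_option autoImplicit false
set_option linter.style.haveILetI false

universe u

open KaehlerDifferential TensorProduct

namespace Groth.Agent.SmoothRetractH7

variable (A : Type u) [CommRing A] (R : Type u) [CommRing R] [Algebra R A]

theorem exists_retract_free_smooth [Algebra.FinitePresentation R A] :
    ∃ (C : Type u) (_ : CommRing C) (_ : Algebra A C) (_ : Algebra R C) (_ : IsScalarTower R A C),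
      Algebra.FiniteType A C ∧ Nonempty (C →ₐ[A] A) ∧
      ∀ a : A, Algebra.FormallySmooth R (Localization.Away a) →
        Algebra.FormallySmooth R (Localization.Away (algebraMap A C a)) ∧
        Module.Free (Localization.Away (algebraMap A C a)) Ω[Localization.Away (algebraMap A C a)⁄R] := by
  obtain ⟨n, σ, hσ⟩ := Module.Finite.exists_fin' A Ω[A⁄R]
  haveI : Module.Finite A (LinearMap.ker σ) := .of_fg (Module.FinitePresentation.fg_ker σ hσ)
  refine ⟨SymmetricAlgebra A (LinearMap.ker σ), inferInstance, inferInstance, inferInstance,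
    IsScalarTower.of_algebraMap_eq fun _ => rfl,
    finiteType_symmetricAlgebra A _, ⟨SymmetricAlgebra.algebraMapInv⟩, fun a h => ?_⟩
  haveI : IsScalarTower R A (SymmetricAlgebra A (LinearMap.ker σ)) := IsScalarTower.of_algebraMap_eq fun _ => rfl
  let C' := Localization.Away (algebraMap A (SymmetricAlgebra A (LinearMap.ker σ)) a)
  haveI : IsScalarTower R A C' := IsScalarTower.to₁₂₄ R A (SymmetricAlgebra A (LinearMap.ker σ)) _
  refine ⟨?_, free_kaehler_localization A a R σ hσ C'⟩
  let Aa := Localization.Away a
  haveI : Algebra.FormallyEtale A Aa := Algebra.FormallyEtale.of_isLocalization (Submonoid.powers a)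
  haveI : Module.Flat A Aa := IsLocalization.flat Aa (Submonoid.powers a)
  haveI hP : Module.Projective Aa (Aa ⊗[A] Ω[A⁄R]) :=
    Module.Projective.of_equiv (tensorKaehlerEquivOfFormallyEtale R A Aa).symm
  let i := AlgebraTensorModule.lTensor Aa Aa (LinearMap.ker σ).subtype
  let q := AlgebraTensorModule.lTensor Aa Aa σ
  have hi : Function.Injective i :=
    Module.Flat.lTensor_preserves_injective_linearMap (M := Aa) _ Subtype.val_injective
  have hiq : Function.Exact i q := Module.Flat.lTensor_exact Aa (LinearMap.exact_subtype_ker_map σ)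
  obtain ⟨l, hl⟩ := Module.projective_lifting_property q LinearMap.id (LinearMap.lTensor_surjective Aa hσ)
  obtain ⟨e₁, -, -⟩ := hiq.splitSurjectiveEquiv hi ⟨l, hl⟩
  haveI : Module.Projective Aa (Aa ⊗[A] LinearMap.ker σ) :=
    Module.Projective.of_split (e₁.symm.toLinearMap ∘ₗ LinearMap.inl Aa _ _)
      (LinearMap.fst Aa _ _ ∘ₗ e₁.toLinearMap) (LinearMap.ext fun x => by simp)
  haveI := formallySmooth_localization_symmetricAlgebra A (LinearMap.ker σ) a C'
  have haC : IsUnit (algebraMap A C' a) := by
    rw [IsScalarTower.algebraMap_apply A (SymmetricAlgebra A (LinearMap.ker σ)) C']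
    exact IsLocalization.Away.algebraMap_isUnit _
  letI : Algebra Aa C' := (IsLocalization.Away.lift (S := Aa) a haC).toAlgebra
  haveI : IsScalarTower A Aa C' := IsScalarTower.of_algebraMap_eq fun r =>
    (IsLocalization.Away.lift_eq (S := Aa) a haC r).symm
  haveI : IsScalarTower R Aa C' := IsScalarTower.of_algebraMap_eq fun r => by
    rw [IsScalarTower.algebraMap_apply R A Aa, ← IsScalarTower.algebraMap_apply A Aa C',
      ← IsScalarTower.algebraMap_apply R A C']
  haveI : Algebra.FormallySmooth Aa C' := Algebra.FormallySmooth.of_restrictScalars (R := A) (A := Aa) (B := C')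
  exact Algebra.FormallySmooth.comp R Aa C'

end Groth.Agent.SmoothRetractH7
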