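import Mathlib.LinearAlgebra.SymmetricAlgebra.Basic
import Mathlib.RingTheory.Smooth.Basic
import Mathlib.RingTheory.MvPolynomial.Basic

/-!
# The symmetric algebra of a finite projective module is smooth
-/

set_option autoImplicit false
set_option linter.style.haveILetI false
universe u

namespace Groth.Agent.SmoothRetractH7

variable (A : Type u) [CommRing A] (Q : Type u) [AddCommGroup Q] [Module A Q]

theorem formallySmooth_symmetricAlgebra [Module.Projective A Q] :
    Algebra.FormallySmooth A (SymmetricAlgebra A Q) := by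
  refine Algebra.FormallySmooth.iff_comp_surjective.2 fun S _ _ I _ g => ?_
  obtain ⟨l, hl⟩ := Module.projective_lifting_property (Ideal.Quotient.mkₐ A I).toLinearMap
    (g.toLinearMap ∘ₗ SymmetricAlgebra.ι A Q) (Ideal.Quotient.mkₐ_surjective A I)
  refine ⟨SymmetricAlgebra.lift l, SymmetricAlgebra.algHom_ext (LinearMap.ext fun q => ?_)⟩
  show Ideal.Quotient.mkₐ A I (SymmetricAlgebra.lift l (SymmetricAlgebra.ι A Q q)) = g (SymmetricAlgebra.ι A Q q)
  rw [SymmetricAlgebra.lift_ι_apply]
  exact LinearMap.congr_fun hl q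

theorem finitePresentation_symmetricAlgebra [Module.Finite A Q] [Module.Projective A Q] :
    Algebra.FinitePresentation A (SymmetricAlgebra A Q) := by
  classical
  obtain ⟨k, f, hf⟩ := Module.Finite.exists_fin' A Q
  obtain ⟨l, hl⟩ := Module.projective_lifting_property f LinearMap.id hf
  let p : MvPolynomial (Fin k) A →ₐ[A] SymmetricAlgebra A Q :=
    MvPolynomial.aeval fun j => SymmetricAlgebra.ι A Q (f (Pi.single j 1))
  let i : SymmetricAlgebra A Q →ₐ[A] MvPolynomial (Fin k) A :=
    SymmetricAlgebra.lift (Fintype.linearCombination A (fun j => (MvPolynomial.X j : MvPolynomial (Fin k) A)) ∘ₗ l)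
  have hpi : p.comp i = AlgHom.id A _ := SymmetricAlgebra.algHom_ext (LinearMap.ext fun q => by
    show p (i (SymmetricAlgebra.ι A Q q)) = SymmetricAlgebra.ι A Q q
    have hq : f (l q) = q := LinearMap.congr_fun hl q
    conv_rhs => rw [← hq, pi_eq_sum_univ' (l q), map_sum, map_sum]
    simp only [i, p, SymmetricAlgebra.lift_ι_apply, LinearMap.comp_apply,
      Fintype.linearCombination_apply, map_sum, map_smul, MvPolynomial.aeval_X])
  have hsurj : Function.Surjective p := fun x => ⟨i x, AlgHom.congr_fun hpi x⟩
  refine Algebra.FinitePresentation.of_surjective hsurj ⟨Finset.univ.image fun (j : Fin k) =>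
    MvPolynomial.X j - i (p (MvPolynomial.X j)), le_antisymm ?_ fun x hx => ?_⟩
  · rw [Ideal.span_le]
    intro z hz
    rw [Finset.coe_image, Finset.coe_univ, Set.image_univ] at hz
    obtain ⟨j, rfl⟩ := hz
    show p (MvPolynomial.X j - i (p (MvPolynomial.X j))) = 0
    rw [map_sub, sub_eq_zero]
    exact (AlgHom.congr_fun hpi _).symm
  · let q := Ideal.Quotient.mkₐ A (Ideal.span (↑(Finset.univ.image fun (j : Fin k) =>
      (MvPolynomial.X j : MvPolynomial (Fin k) A) - i (p (MvPolynomial.X j))) : Set (MvPolynomial (Fin k) A)))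
    have h : q.comp (i.comp p) = q := by
      refine MvPolynomial.algHom_ext fun j => ?_
      show q (i (p (MvPolynomial.X j))) = q (MvPolynomial.X j)
      rw [eq_comm, ← sub_eq_zero, ← map_sub]
      exact Ideal.Quotient.eq_zero_iff_mem.2 (Ideal.subset_span (Finset.mem_image_of_mem _ (Finset.mem_univ j)))
    have h2 := AlgHom.congr_fun h x
    have hx0 : p x = 0 := hx
    rw [AlgHom.comp_apply, AlgHom.comp_apply, hx0, map_zero, map_zero] at h2
    exact Ideal.Quotient.eq_zero_iff_mem.1 h2.symm

end Groth.Agent.SmoothRetractH7
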